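import Groth.Agent.SDiv.K474.FittSheaf
import Groth.Agent.Models2.FPCoh
import Groth.Agent.Desc.FPSections
import Groth.Agent.S8872
import Groth.Agent.S8873
import Groth.Agent.S8876
import Groth.Agent.Fitt.K360.Fiber
import Groth.Agent.Ega1.ClosedKill
import Groth.Agent.FormalA.ProperOver
import Groth.Agent.FlatA.ClosedFP

/-!
# A finitely presented closed subscheme carrying a module of proper support, compatibly with base change

For a finitely presented module `E` on `Y`, the closed subscheme `W = V(Fitt_0 E)` is finitely presented in `Y`,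
has the support of `E` as underlying set, and for every base change `k : Y' ⟶ Y` the ideal of `W' = W ×_Y Y'` kills
every module isomorphic to `k^*E`.
-/

set_option autoImplicit false
universe u
open CategoryTheory CategoryTheory.Limits AlgebraicGeometry TopologicalSpace

namespace Groth.Agent.K174.Supp

variable {Y T : Scheme.{u}}

/-- The ideal of a base change of `V(Fitt_0 E)` kills the pull-back of `E`. -/
theorem smul_eq_zero {E : Y.Modules} (hE : CohB1.IsFP E) {Y' W' : Scheme.{u}} (k : Y' ⟶ Y) (i' : W' ⟶ Y')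
    (k' : W' ⟶ (Fitt.sheafIdeal E 0).subscheme) (h : IsPullback k' i' (Fitt.sheafIdeal E 0).subschemeι k)
    (M : Y'.Modules) (e : Nonempty (M ≅ (Scheme.Modules.pullback k).obj E)) :
    IsIso ((Scheme.Modules.pullbackPushforwardAdjunction i').unit.app M) := by
  obtain ⟨e⟩ := e
  have hq := Models2.FPCoh.isQCoh_of_isFP hE
  have hft := Models2.FPCoh.isFT_of_isFP hE
  have : E.IsQuasicoherent := hq
  have hq' : Coh.IsQCoh ((Scheme.Modules.pullback k).obj E) :=
    CohqA.PullbackQCoh.isQuasicoherent_pullback k E
  have hft' : CohB1.IsFT ((Scheme.Modules.pullback k).obj E) :=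
    SDiv.K474.FittSheaf.isFT_pullback k E hq hft
  have hM : Coh.IsQCoh M := CohqB.LocalQC.isQCoh_of_iso e.symm hq'
  have : M.IsQuasicoherent := hM
  have : IsClosedImmersion i' := MorphismProperty.of_isPullback h inferInstance
  have hker : i'.ker = Fitt.sheafIdeal ((Scheme.Modules.pullback k).obj E) 0 := by
    rw [← S8872.result k E hq hft 0, Scheme.IdealSheafData.comap,
      ← Scheme.Hom.ker_comp_of_isIso h.flip.isoPullback.hom, h.flip.isoPullback_hom_fst]
  have key : IsIso ((Scheme.Modules.pullbackPushforwardAdjunction i').unit.app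
      ((Scheme.Modules.pullback k).obj E)) := by
    rw [Ega1.ClosedKill.isIso_unit_iff]
    intro U a ha m
    rw [hker, SDiv.K474.FittSheaf.sheafIdeal_ideal _ hq' hft'] at ha
    have : Module.Finite Γ(Y', U.1) Γ((Scheme.Modules.pullback k).obj E, U.1) :=
      CohqB.FiniteType2.finite_sections_of_isFT _ hft' U.2
    exact Module.mem_annihilator.1 (K360.FittFiber.ideal_zero_le_annihilator ha) m
  rw [← NatTrans.isIso_app_iff_of_iso _ e] at key
  exact key

theorem exists_supp (q : Y ⟶ T) [LocallyOfFiniteType q] (E : Y.Modules) (hE : CohB1.IsFP E)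
    (hsupp : ∃ (Z : Scheme.{u}) (i : Z ⟶ Y), IsClosedImmersion i ∧ IsProper (i ≫ q) ∧
      CohB1.support E ⊆ Set.range i.base) :
    ∃ (W : Scheme.{u}) (i : W ⟶ Y), IsClosedImmersion i ∧ LocallyOfFinitePresentation i ∧ IsProper (i ≫ q) ∧
      Set.range i.base = CohB1.support E ∧
      ∀ {Y' W' : Scheme.{u}} (k : Y' ⟶ Y) (i' : W' ⟶ Y') (k' : W' ⟶ W), IsPullback k' i' i k →
        ∀ M : Y'.Modules, Nonempty (M ≅ (Scheme.Modules.pullback k).obj E) →
          IsIso ((Scheme.Modules.pullbackPushforwardAdjunction i').unit.app M) := by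
  have hq := Models2.FPCoh.isQCoh_of_isFP hE
  have hft := Models2.FPCoh.isFT_of_isFP hE
  have hr : Set.range (Fitt.sheafIdeal E 0).subschemeι.base = CohB1.support E := by
    rw [← S8876.result Y E hq hft]
    exact Scheme.IdealSheafData.range_subschemeι _
  refine ⟨_, (Fitt.sheafIdeal E 0).subschemeι, inferInstance,
    FlatA.ClosedFP.locallyOfFinitePresentation_subschemeι _ (S8873.result Y E hE 0), ?_, hr,
    fun k i' k' h M e => smul_eq_zero hE k i' k' h M e⟩
  obtain ⟨Z, i, hi, hp, hs⟩ := hsupp
  have hc : IsClosed (CohB1.support E) := by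
    rw [← S8876.result Y E hq hft]
    exact (Fitt.sheafIdeal E 0).support.isClosed
  exact FormalA.ProperOver.isProper_closedImmersion q _
    (FormalA.ProperOver.isProperOver_of_closedImmersion q _ hc i hs) _ hr

end Groth.Agent.K174.Supp
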